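import Mathlib.RingTheory.Discriminant
import Mathlib.RingTheory.AdjoinRoot
import Mathlib.RingTheory.OrzechProperty
import Mathlib.RingTheory.DiscreteValuationRing.Basic
import Mathlib.LinearAlgebra.Matrix.NonsingularInverse
import Mathlib.LinearAlgebra.Matrix.Basis

/-!
# Double crimps
-/

set_option autoImplicit false

universe u v

open Module Matrix

noncomputable section

namespace Groth.Agent.Crimp29

variable {R : Type u} [CommRing R] [IsDomain R] [IsDiscreteValuationRing R] {B : Type v} [CommRing B] [Algebra R B]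

/-- The two basis vectors of the crimp of index `t`. -/
theorem exists_basis (bB : Basis (Fin 2) R B) (h0 : bB 0 = 1) (S : Subalgebra R B) {t : R} (ht : t ≠ 0)
    (hS : Subalgebra.toSubmodule S = Submodule.span R {(1 : B)} ⊔ Submodule.span R {t • bB 1}) :
    ∃ e : Basis (Fin 2) R S, (e 0 : B) = 1 ∧ (e 1 : B) = t • bB 1 := by
  have h1 : t • bB 1 ∈ S := by
    rw [← Subalgebra.mem_toSubmodule, hS]
    exact Submodule.mem_sup_right (Submodule.mem_span_singleton_self _)
  let v : Fin 2 → S := ![1, ⟨t • bB 1, h1⟩]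
  have hli : LinearIndependent R v := by
    refine LinearIndependent.of_comp S.val.toLinearMap ?_
    rw [show (S.val.toLinearMap ∘ v) = ![1, t • bB 1] from funext fun i => by fin_cases i <;> rfl,
      LinearIndependent.pair_iff]
    intro r s hrs
    have e0 := congrArg (fun x => bB.repr x 0) hrs
    have e1 := congrArg (fun x => bB.repr x 1) hrs
    simp [← h0] at e0 e1
    exact ⟨e0, e1.resolve_right ht⟩
  have hsp : ⊤ ≤ Submodule.span R (Set.range v) := by
    rintro ⟨x, hx⟩ -
    have hx' := hx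
    rw [← Subalgebra.mem_toSubmodule, hS, Submodule.mem_sup] at hx'
    obtain ⟨_, h, _, h', e⟩ := hx'
    obtain ⟨r, rfl⟩ := Submodule.mem_span_singleton.1 h
    obtain ⟨s, rfl⟩ := Submodule.mem_span_singleton.1 h'
    rw [show (⟨x, hx⟩ : S) = r • v 0 + s • v 1 from Subtype.ext e.symm]
    exact add_mem (Submodule.smul_mem _ _ (Submodule.subset_span ⟨0, rfl⟩))
      (Submodule.smul_mem _ _ (Submodule.subset_span ⟨1, rfl⟩))
  exact ⟨Basis.mk hli hsp, by rw [Basis.mk_apply]; rfl, by rw [Basis.mk_apply]; rfl⟩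

/-- A subalgebra free of rank two is `R + t B`. -/
theorem exists_exponent (bB : Basis (Fin 2) R B) (h0 : bB 0 = 1) (S : Subalgebra R B) (bS : Basis (Fin 2) R S)
    {ϖ : R} (hϖ : Irreducible ϖ) :
    ∃ n : ℕ, Subalgebra.toSubmodule S = Submodule.span R {(1 : B)} ⊔ Submodule.span R {ϖ ^ n • bB 1} := by
  let I : Ideal R := (Subalgebra.toSubmodule S).map (bB.coord 1)
  have hdec : ∀ x : B, x = bB.repr x 0 • (1 : B) + bB.repr x 1 • bB 1 := fun x => by
    conv_lhs => rw [← bB.sum_repr x, Fin.sum_univ_two, h0]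
  have hI : I ≠ ⊥ := by
    intro hbot
    have hz : ∀ i, bB.repr (bS i : B) 1 = 0 := fun i => by
      have h : bB.coord 1 (bS i : B) ∈ I := ⟨_, (bS i).2, rfl⟩
      rwa [hbot, Ideal.mem_bot] at h
    have hsc : ∀ i, (bS i : B) = bB.repr (bS i : B) 0 • (1 : B) := fun i => by
      conv_lhs => rw [hdec (bS i : B), hz i, zero_smul, add_zero]
    have hdep := LinearIndependent.pair_iff.1
      (show LinearIndependent R ![bS 0, bS 1] by
        rw [show ![bS 0, bS 1] = bS from funext fun i => by fin_cases i <;> rfl]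
        exact bS.linearIndependent)
      (bB.repr (bS 1 : B) 0) (-bB.repr (bS 0 : B) 0) (Subtype.ext (by
        show _ • (bS 0 : B) + _ • (bS 1 : B) = 0
        conv_lhs => rw [hsc 0, hsc 1]
        simp only [← h0, map_smul, Basis.repr_self, Finsupp.smul_apply, Finsupp.single_eq_same, smul_eq_mul, mul_one,
          smul_smul, ← add_smul]
        ring_nf
        simp))
    refine bS.ne_zero 0 (Subtype.ext ?_)
    rw [hsc 0, neg_eq_zero.1 hdep.2, zero_smul]
    rfl
  obtain ⟨n, hn⟩ := IsDiscreteValuationRing.ideal_eq_span_pow_irreducible hI hϖ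
  obtain ⟨s, hs, hs1⟩ : ϖ ^ n ∈ I := by rw [hn]; exact Ideal.mem_span_singleton_self _
  have hgen : ϖ ^ n • bB 1 ∈ Subalgebra.toSubmodule S := by
    have h : ϖ ^ n • bB 1 = s - bB.repr s 0 • (1 : B) := by
      rw [show ϖ ^ n = bB.repr s 1 from hs1.symm, eq_sub_iff_add_eq, add_comm]
      exact (hdec s).symm
    rw [h]
    exact sub_mem hs (Submodule.smul_mem _ _ S.one_mem)
  refine ⟨n, le_antisymm (fun x hx => ?_) (sup_le ((Submodule.span_singleton_le_iff_mem _ _).2 S.one_mem)
    ((Submodule.span_singleton_le_iff_mem _ _).2 hgen))⟩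
  have h : bB.coord 1 x ∈ I := ⟨x, hx, rfl⟩
  rw [hn, Ideal.mem_span_singleton'] at h
  obtain ⟨c, hc⟩ := h
  rw [hdec x, show bB.repr x 1 = c * ϖ ^ n from hc.symm, mul_smul]
  exact add_mem (Submodule.mem_sup_left (Submodule.smul_mem _ _ (Submodule.mem_span_singleton_self _)))
    (Submodule.mem_sup_right (Submodule.smul_mem _ _ (Submodule.mem_span_singleton_self _)))

/-- The discriminant of the crimp. -/
theorem span_discr (bB : Basis (Fin 2) R B) (h0 : bB 0 = 1) {α β : R}
    (hθ : bB 1 * bB 1 = β • (1 : B) + α • bB 1) (S : Subalgebra R B) {t : R} (ht : t ≠ 0)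
    (hS : Subalgebra.toSubmodule S = Submodule.span R {(1 : B)} ⊔ Submodule.span R {t • bB 1})
    (bS : Basis (Fin 2) R S) :
    Ideal.span {Algebra.discr R ⇑bS} = Ideal.span {t ^ 2 * (α ^ 2 + 4 * β)} := by
  obtain ⟨e, he0, he1⟩ := exists_basis bB h0 S ht hS
  have e0 : e 0 = 1 := Subtype.ext he0
  have e11 : e 1 * e 1 = (t * t * β) • e 0 + (t * α) • e 1 := Subtype.ext (by
    show (e 1 : B) * (e 1 : B) = (t * t * β) • (e 0 : B) + (t * α) • (e 1 : B)
    rw [he0, he1, smul_mul_smul_comm, hθ, smul_add, smul_smul, smul_smul, smul_smul]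
    ring_nf)
  have htr : ∀ x : S, Algebra.trace R S x = e.repr x 0 * 2 + e.repr x 1 * (t * α) := by
    intro x
    conv_lhs => rw [← e.sum_repr x, Fin.sum_univ_two, map_add, map_smul, map_smul]
    have h1 : Algebra.trace R S (e 0) = 2 := by
      rw [e0, ← map_one (algebraMap R S), Algebra.trace_algebraMap_of_basis e]
      simp
    have h2 : Algebra.trace R S (e 1) = t * α := by
      rw [Algebra.trace_eq_matrix_trace e, Matrix.trace_fin_two, Algebra.leftMulMatrix_eq_repr_mul,
        Algebra.leftMulMatrix_eq_repr_mul, e11, e0, mul_one, ← e0, map_add, map_smul, map_smul]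
      simp
    rw [h1, h2, smul_eq_mul, smul_eq_mul]
  have hdisc : Algebra.discr R ⇑e = t ^ 2 * (α ^ 2 + 4 * β) := by
    rw [Algebra.discr_def, Matrix.det_fin_two]
    simp only [Algebra.traceMatrix_apply, Algebra.traceForm_apply, htr, e11]
    simp only [e0, one_mul, mul_one, map_one]
    rw [← e0]
    simp
    ring
  have hP := Algebra.discr_of_matrix_vecMul (A := R) (⇑e) (e.toMatrix ⇑bS)
  rw [e.toMatrix_map_vecMul] at hP
  rw [hP, hdisc]
  refine Ideal.span_singleton_mul_left_unit (IsUnit.pow _ ?_) _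
  exact Matrix.isUnit_det_of_right_inverse (e.toMatrix_mul_toMatrix_flip bS)

/-- The crimp is a quadratic extension. -/
theorem nonempty_algEquiv (bB : Basis (Fin 2) R B) (h0 : bB 0 = 1) (S : Subalgebra R B) {t : R} (ht : t ≠ 0)
    (hS : Subalgebra.toSubmodule S = Submodule.span R {(1 : B)} ⊔ Submodule.span R {t • bB 1})
    (c w : R) (hw : IsUnit w) (N : R) (hη : (c • (1 : B) + w • (t • bB 1)) * (c • (1 : B) + w • (t • bB 1)) = N • 1) :
    Nonempty (S ≃ₐ[R] AdjoinRoot (Polynomial.X ^ 2 - Polynomial.C N)) := by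
  obtain ⟨e, he0, he1⟩ := exists_basis bB h0 S ht hS
  have hmon : (Polynomial.X ^ 2 - Polynomial.C N).Monic := Polynomial.monic_X_pow_sub_C N two_ne_zero
  let η : S := c • e 0 + w • e 1
  let f : AdjoinRoot (Polynomial.X ^ 2 - Polynomial.C N) →ₐ[R] S :=
    AdjoinRoot.liftAlgHom _ (Algebra.ofId R S) η (by
      rw [Polynomial.eval₂_sub, Polynomial.eval₂_pow, Polynomial.eval₂_X, Polynomial.eval₂_C, sub_eq_zero, pow_two]
      refine Subtype.ext ?_
      show (c • (e 0 : B) + w • (e 1 : B)) * (c • (e 0 : B) + w • (e 1 : B)) = algebraMap R B N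
      rw [he0, he1, hη, Algebra.algebraMap_eq_smul_one])
  have hsurj : Function.Surjective f := by
    intro x
    have hx : x ∈ LinearMap.range f.toLinearMap := by
      have h0m : e 0 ∈ LinearMap.range f.toLinearMap := ⟨1, by
        rw [AlgHom.toLinearMap_apply, map_one]; exact (Subtype.ext he0).symm⟩
      have h1m : e 1 ∈ LinearMap.range f.toLinearMap := by
        have hη' : η ∈ LinearMap.range f.toLinearMap :=
          ⟨AdjoinRoot.root _, by simp [f]⟩
        have h : w • e 1 ∈ LinearMap.range f.toLinearMap := by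
          have := sub_mem hη' (Submodule.smul_mem _ c h0m)
          simpa [η] using this
        obtain ⟨u, rfl⟩ := hw
        simpa [smul_smul] using Submodule.smul_mem _ (↑u⁻¹ : R) h
      rw [← e.sum_repr x, Fin.sum_univ_two]
      exact add_mem (Submodule.smul_mem _ _ h0m) (Submodule.smul_mem _ _ h1m)
    exact hx
  haveI : Module.Finite R S := Module.Finite.of_basis e
  let P := AdjoinRoot.powerBasis' hmon
  have hdim : P.dim = 2 := Polynomial.natDegree_X_pow_sub_C
  let L : S ≃ₗ[R] AdjoinRoot (Polynomial.X ^ 2 - Polynomial.C N) := e.equiv P.basis (finCongr hdim.symm)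
  have hinj : Function.Injective f := by
    have h := OrzechProperty.injective_of_surjective_endomorphism (f.toLinearMap ∘ₗ L.toLinearMap)
      (hsurj.comp L.surjective)
    intro x y hxy
    obtain ⟨x', rfl⟩ := L.surjective x
    obtain ⟨y', rfl⟩ := L.surjective y
    exact congrArg L (h hxy)
  exact ⟨(AlgEquiv.ofBijective f ⟨hinj, hsurj⟩).symm⟩

/-- The classification of double crimps. -/
theorem main (bB : Basis (Fin 2) R B) (h0 : bB 0 = 1) {α β : R}
    (hθ : bB 1 * bB 1 = β • (1 : B) + α • bB 1) {ϖ : R} (hϖ : Irreducible ϖ) (ε : ℕ)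
    (hD : Ideal.span {α ^ 2 + 4 * β} = Ideal.span {ϖ ^ ε}) (b : ℕ) (S : Subalgebra R B) :
    ((∃ bS : Basis (Fin 2) R S, Ideal.span {Algebra.discr R ⇑bS} = Ideal.span {ϖ ^ b}) ↔
      ∃ n : ℕ, b = 2 * n + ε ∧ Subalgebra.toSubmodule S =
        Submodule.span R {(1 : B)} ⊔ Submodule.span R {ϖ ^ n • bB 1}) ∧
    ∀ n : ℕ, Submodule.span R {(1 : B)} ⊔ Submodule.span R {ϖ ^ n • bB 1} =
      Submodule.span R {(1 : B)} ⊔ Ideal.span {ϖ ^ n} • (⊤ : Submodule R B) := by
  have hpow : ∀ n, ϖ ^ n ≠ (0 : R) := fun n => pow_ne_zero n hϖ.ne_zero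
  refine ⟨⟨fun ⟨bS, hbS⟩ => ?_, fun ⟨n, hb, hS⟩ => ?_⟩, fun n => ?_⟩
  · obtain ⟨n, hn⟩ := exists_exponent bB h0 S bS hϖ
    refine ⟨n, ?_, hn⟩
    rw [span_discr bB h0 hθ S (hpow n) hn bS, ← Ideal.span_singleton_mul_span_singleton, hD,
      Ideal.span_singleton_mul_span_singleton, ← pow_mul, ← pow_add, Ideal.span_singleton_eq_span_singleton] at hbS
    have h1 := (pow_dvd_pow_iff hϖ.ne_zero hϖ.not_isUnit).1 hbS.dvd
    have h2 := (pow_dvd_pow_iff hϖ.ne_zero hϖ.not_isUnit).1 hbS.symm.dvd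
    omega
  · obtain ⟨e, -, -⟩ := exists_basis bB h0 S (hpow n) hS
    refine ⟨e, ?_⟩
    rw [span_discr bB h0 hθ S (hpow n) hS e, ← Ideal.span_singleton_mul_span_singleton, hD,
      Ideal.span_singleton_mul_span_singleton, ← pow_mul, ← pow_add, hb, mul_comm n]
  · rw [Submodule.ideal_span_singleton_smul]
    refine le_antisymm (sup_le le_sup_left ((Submodule.span_singleton_le_iff_mem _ _).2
      (Submodule.mem_sup_right (Submodule.smul_mem_pointwise_smul _ _ _ trivial)))) (sup_le le_sup_left ?_)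
    intro x hx
    obtain ⟨y, -, rfl⟩ := (Submodule.mem_smul_pointwise_iff_exists _ _ _).1 hx
    rw [← bB.sum_repr y, Fin.sum_univ_two, h0, smul_add, smul_comm (ϖ ^ n), smul_comm (ϖ ^ n)]
    exact add_mem (Submodule.mem_sup_left (Submodule.smul_mem _ _ (Submodule.smul_mem _ _ (Submodule.mem_span_singleton_self _))))
      (Submodule.mem_sup_right (Submodule.smul_mem _ _ (Submodule.mem_span_singleton_self _)))

end Groth.Agent.Crimp29
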